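import Groth.Prelude.Def_FibClv
import Groth.Agent.Desc19.Cartesian

/-! Cleavages: comparison morphisms. -/

set_option autoImplicit false
set_option backward.isDefEq.respectTransparency false
set_option backward.isDefEq.respectTransparency.types false

universe v₁ v₂ v₃ u₁ u₂ u₃

open CategoryTheory CategoryTheory.Functor

namespace Groth.Agent.FibClv19

variable {𝒮 : Type u₁} {𝒳 : Type u₂} [Category.{v₁} 𝒮] [Category.{v₂} 𝒳] {p : 𝒳 ⥤ 𝒮} (K : FibCat.Cleavage p)

theorem congr_app {R S : 𝒮} {f f' : R ⟶ S} (h : f = f') (a : p.Fiber S) :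
    Fiber.fiberInclusion.map ((K.inverseImageCongr h).hom.app a) ≫ K.lift a.2 f' = K.lift a.2 f := by
  subst h
  rw [show (K.inverseImageCongr (rfl : f = f)).hom.app a = 𝟙 _ from rfl, CategoryTheory.Functor.map_id]
  exact Category.id_comp _

theorem comp_fac {R S T : 𝒮} (f : T ⟶ S) (g : R ⟶ T) (a : p.Fiber S) :
    Fiber.fiberInclusion.map ((K.comp f g).app a) ≫ K.lift a.2 (g ≫ f) =
      K.lift (K.obj_proj a.2 f) g ≫ K.lift a.2 f := by
  rw [FibCat.Cleavage.comp_app]
  exact IsCartesian.fac _ _ _ _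

theorem map_fac {R S : 𝒮} (f : R ⟶ S) {a b : p.Fiber S} (φ : a ⟶ b) :
    Fiber.fiberInclusion.map ((K.inverseImage f).map φ) ≫ K.lift b.2 f =
      K.lift a.2 f ≫ Fiber.fiberInclusion.map φ := by
  rw [FibCat.Cleavage.inverseImage_map]
  exact IsCartesian.fac _ _ _ _

theorem comp_id_app {S T : 𝒮} (f : T ⟶ S) (a : p.Fiber S) :
    Fiber.fiberInclusion.map ((K.comp f (𝟙 T)).app a ≫ (K.inverseImageCongr (Category.id_comp f)).hom.app a) =
      (K.transport (𝟙 T)).app ((K.inverseImage f).obj a) := by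
  have h : IsHomLift p (𝟙 T) ((K.transport (𝟙 T)).app ((K.inverseImage f).obj a)) :=
    inferInstanceAs (IsHomLift p (𝟙 T) (K.lift ((K.inverseImage f).obj a).2 (𝟙 T)))
  apply IsCartesian.ext p f (K.lift a.2 f)
  rw [Functor.map_comp, Category.assoc, congr_app, comp_fac]
  rfl

theorem comp_id_left_app {S T : 𝒮} (f : T ⟶ S) (a : p.Fiber S) :
    (K.comp (𝟙 S) f).app a ≫ (K.inverseImageCongr (Category.comp_id f)).hom.app a =
      (K.inverseImage f).map (Fiber.homMk p S (K.lift a.2 (𝟙 S))) := by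
  apply Fiber.hom_ext
  apply IsCartesian.ext p f (K.lift a.2 f)
  rw [Functor.map_comp, Category.assoc, congr_app, comp_fac, map_fac, Fiber.fiberInclusion_homMk]

theorem comp_cocycle {S T U V : 𝒮} (f : T ⟶ S) (g : U ⟶ T) (h : V ⟶ U) :
    Functor.whiskerLeft (K.inverseImage f) (K.comp g h) ≫ K.comp f (h ≫ g) ≫ (K.inverseImageCongr (Category.assoc h g f)).hom =
      Functor.whiskerRight (K.comp f g) (K.inverseImage h) ≫ K.comp (g ≫ f) h := by
  ext a
  apply IsCartesian.ext p (h ≫ g ≫ f) (K.lift a.2 (h ≫ g ≫ f))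
  simp only [NatTrans.comp_app, Functor.map_comp, Functor.whiskerLeft_app, Functor.whiskerRight_app, Category.assoc]
  erw [congr_app, comp_fac, ← Category.assoc, comp_fac, comp_fac]
  rw [Category.assoc]
  conv_rhs => rw [← Category.assoc]
  erw [map_fac, Category.assoc, comp_fac]

theorem existsUnique_natTrans {C : Type u₃} [Category.{v₃} C] (F G : 𝒳 ⥤ C)
    (u : ∀ S : 𝒮, (Fiber.fiberInclusion ⋙ F : p.Fiber S ⥤ C) ⟶ Fiber.fiberInclusion ⋙ G)
    (hu : ∀ ⦃T S : 𝒮⦄ (f : T ⟶ S) (a : p.Fiber S),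
      F.map ((K.transport f).app a) ≫ (u S).app a = (u T).app ((K.inverseImage f).obj a) ≫ G.map ((K.transport f).app a)) :
    ∃! v : F ⟶ G, ∀ (S : 𝒮) (a : p.Fiber S), v.app a.1 = (u S).app a := by
  have key : ∀ {S : 𝒮} (a : p.Fiber S), (u S).app a = (u (p.obj a.1)).app ⟨a.1, rfl⟩ := by
    rintro S ⟨a, rfl⟩; rfl
  refine ⟨{ app := fun a => (u (p.obj a)).app ⟨a, rfl⟩, naturality := fun a b φ => ?_ }, fun S a => (key a).symm, ?_⟩
  · let B : p.Fiber (p.obj b) := ⟨b, rfl⟩
    let A : p.Fiber (p.obj a) := ⟨a, rfl⟩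
    have : IsHomLift p (p.map φ) φ := IsHomLift.map φ
    have hc := K.isCartesian (rfl : p.obj b = p.obj b) (p.map φ)
    let ψ : A ⟶ (K.inverseImage (p.map φ)).obj B :=
      Fiber.homMk p (p.obj a) (IsCartesian.map p (p.map φ) (K.lift (rfl : p.obj b = p.obj b) (p.map φ)) φ)
    have e : φ = Fiber.fiberInclusion.map ψ ≫ (K.transport (p.map φ)).app B :=
      (IsCartesian.fac p (p.map φ) (K.lift (rfl : p.obj b = p.obj b) (p.map φ)) φ).symm
    have n := (u (p.obj a)).naturality ψ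
    show F.map φ ≫ (u (p.obj b)).app B = (u (p.obj a)).app A ≫ G.map φ
    rw [e, F.map_comp, G.map_comp, Category.assoc, hu (p.map φ) B]
    exact (Category.assoc _ _ _).symm.trans ((congrArg (· ≫ _) n).trans (Category.assoc _ _ _))
  · intro v hv
    ext a
    exact hv _ ⟨a, rfl⟩

theorem exists_isNormalised [p.IsPreFibered] : ∃ K : FibCat.Cleavage p, K.IsNormalised := by
  classical
  have h : ∀ {R S : 𝒮} {a : 𝒳} (_ : p.obj a = S) (f : R ⟶ S), ∃ (b : 𝒳) (φ : b ⟶ a), p.IsCartesian f φ ∧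
      (R = S → HEq f (𝟙 S) → ∃ e : b = a, φ = eqToHom e) := fun {R S a} ha f => by
    by_cases hf : R = S ∧ HEq f (𝟙 S)
    · obtain ⟨rfl, hf⟩ := hf
      obtain rfl := eq_of_heq hf
      subst ha
      exact ⟨a, 𝟙 a, inferInstance, fun _ _ => ⟨rfl, rfl⟩⟩
    · exact ⟨IsPreFibered.pullbackObj ha f, IsPreFibered.pullbackMap ha f, inferInstance, fun e e' => (hf ⟨e, e'⟩).elim⟩
  choose b φ hc he using fun (R S : 𝒮) (a : 𝒳) (ha : p.obj a = S) (f : R ⟶ S) => h ha f
  exact ⟨⟨fun {R S a} ha f => b R S a ha f, fun {R S a} ha f => φ R S a ha f, fun {R S a} ha f => hc R S a ha f⟩,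
    fun S a ha => he S S a ha (𝟙 S) rfl HEq.rfl⟩

theorem isFibered_iff_isIso_comp :
    p.IsFibered ↔ ∀ (R S T : 𝒮) (f : T ⟶ S) (g : R ⟶ T), IsIso (K.comp f g) := by
  constructor
  · intro h R S T f g
    rw [NatTrans.isIso_iff_isIso_app]
    intro a
    have hA : p.IsCartesian (g ≫ f) (K.lift (K.obj_proj a.2 f) g ≫ K.lift a.2 f) := IsFibered.comp g f _ _
    have := IsCartesian.map p (g ≫ f) (K.lift (K.obj_proj a.2 f) g ≫ K.lift a.2 f) (K.lift a.2 (g ≫ f))
    refine ⟨⟨Fiber.homMk p R (IsCartesian.map p (g ≫ f) (K.lift (K.obj_proj a.2 f) g ≫ K.lift a.2 f) (K.lift a.2 (g ≫ f))), ?_, ?_⟩⟩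
    · apply Fiber.hom_ext
      apply IsCartesian.ext p (g ≫ f) (K.lift (K.obj_proj a.2 f) g ≫ K.lift a.2 f)
      rw [Functor.map_comp, Category.assoc, Fiber.fiberInclusion_homMk, IsCartesian.fac, comp_fac, CategoryTheory.Functor.map_id]
      exact (Category.id_comp _).symm
    · apply Fiber.hom_ext
      apply IsCartesian.ext p (g ≫ f) (K.lift a.2 (g ≫ f))
      rw [Functor.map_comp, Category.assoc, comp_fac, Fiber.fiberInclusion_homMk, IsCartesian.fac, CategoryTheory.Functor.map_id]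
      exact (Category.id_comp _).symm
  · intro h
    have : p.IsPreFibered := K.isPreFibered
    refine ⟨fun {R S T} f g {a b c} φ ψ hφ hψ => ?_⟩
    obtain rfl := IsHomLift.codomain_eq p g ψ
    let B : p.Fiber S := ⟨b, IsHomLift.domain_eq p g ψ⟩
    let C : p.Fiber (p.obj c) := ⟨c, rfl⟩
    let i := IsCartesian.domainUniqueUpToIso p g (K.lift (rfl : p.obj c = p.obj c) g) ψ
    let j : B ⟶ (K.inverseImage g).obj C := Fiber.homMk p S i.hom
    let m := (K.inverseImage f).map j ≫ (K.comp g f).app C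
    have := h R (p.obj c) S g f
    have hj : IsIso j := ⟨⟨Fiber.homMk p S i.inv, Fiber.hom_ext (by rw [Functor.map_comp, Fiber.fiberInclusion_homMk, Fiber.fiberInclusion_homMk, i.hom_inv_id, CategoryTheory.Functor.map_id]; rfl),
      Fiber.hom_ext (by rw [Functor.map_comp, Fiber.fiberInclusion_homMk, Fiber.fiberInclusion_homMk, i.inv_hom_id, CategoryTheory.Functor.map_id]; rfl)⟩⟩
    let k := IsCartesian.domainUniqueUpToIso p f (K.lift B.2 f) φ
    have hm : IsHomLift p (𝟙 R) (Fiber.fiberInclusion.map m) := inferInstance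
    let k' : a ≅ K.obj B.2 f := k
    let l : a ≅ K.obj C.2 (f ≫ g) := k' ≪≫ Fiber.fiberInclusion.mapIso (asIso m)
    have e : φ ≫ ψ = l.hom ≫ K.lift C.2 (f ≫ g) := by
      show φ ≫ ψ = (k'.hom ≫ Fiber.fiberInclusion.map m) ≫ K.lift C.2 (f ≫ g)
      rw [Functor.map_comp, Category.assoc, Category.assoc, comp_fac]
      erw [reassoc_of% (map_fac K f j)]
      rw [show Fiber.fiberInclusion.map j = i.hom from Fiber.fiberInclusion_homMk _ _ _]
      erw [show i.hom ≫ K.lift C.2 g = ψ from IsCartesian.fac p g (K.lift C.2 g) ψ, reassoc_of% (show k'.hom ≫ K.lift B.2 f = φ from IsCartesian.fac p f (K.lift B.2 f) φ)]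
    rw [e]
    have hl : IsHomLift p (𝟙 R) l.hom := by
      show IsHomLift p (𝟙 R) (k'.hom ≫ Fiber.fiberInclusion.map m)
      have : IsHomLift p (𝟙 R) k'.hom := inferInstanceAs (IsHomLift p (𝟙 R) k.hom)
      simpa using (inferInstance : IsHomLift p (𝟙 R ≫ 𝟙 R) (k'.hom ≫ Fiber.fiberInclusion.map m))
    exact IsCartesian.of_iso_comp p (f ≫ g) _ l

theorem isEquivalence_inverseImage [p.IsFibered] {S T : 𝒮} (f : T ⟶ S) [IsIso f] : (K.inverseImage f).IsEquivalence := by
  have hid : ∀ (X : 𝒮), (K.inverseImage (𝟙 X)).IsEquivalence := fun X => by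
    have hidl : ∀ a : p.Fiber X, IsHomLift p (𝟙 X) (𝟙 a.1) := fun a => IsHomLift.id a.2
    let e : K.inverseImage (𝟙 X) ≅ 𝟭 (p.Fiber X) := NatIso.ofComponents (fun a =>
      { hom := Fiber.homMk p X (K.lift a.2 (𝟙 X))
        inv := Fiber.homMk p X (IsCartesian.map p (𝟙 X) (K.lift a.2 (𝟙 X)) (𝟙 a.1))
        hom_inv_id := Fiber.hom_ext (by
          apply IsCartesian.ext p (𝟙 X) (K.lift a.2 (𝟙 X))
          rw [Functor.map_comp, Fiber.fiberInclusion_homMk, Fiber.fiberInclusion_homMk, Category.assoc, IsCartesian.fac, CategoryTheory.Functor.map_id]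
          exact (Category.comp_id _).trans (Category.id_comp _).symm)
        inv_hom_id := Fiber.hom_ext (by
          rw [Functor.map_comp, Fiber.fiberInclusion_homMk, Fiber.fiberInclusion_homMk]
          exact (IsCartesian.fac _ _ _ _).trans (Fiber.fiberInclusion.map_id _).symm) })
      (fun {a b} φ => Fiber.hom_ext (map_fac K (𝟙 X) φ))
    exact Functor.isEquivalence_of_iso e.symm
  have := (isFibered_iff_isIso_comp K).1 inferInstance
  have h1 : (K.inverseImage f ⋙ K.inverseImage (inv f)).IsEquivalence :=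
    @Functor.isEquivalence_of_iso _ _ _ _ _ _
      ((asIso (K.comp f (inv f))) ≪≫ K.inverseImageCongr (IsIso.inv_hom_id f)).symm (hid S)
  have h2 : (K.inverseImage (inv f) ⋙ K.inverseImage f).IsEquivalence :=
    @Functor.isEquivalence_of_iso _ _ _ _ _ _
      ((asIso (K.comp (inv f) f)) ≪≫ K.inverseImageCongr (IsIso.hom_inv_id f)).symm (hid T)
  have : (K.inverseImage (inv f)).Faithful := Functor.Faithful.of_comp _ (K.inverseImage f)
  have : (K.inverseImage f).Faithful := Functor.Faithful.of_comp _ (K.inverseImage (inv f))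
  have : (K.inverseImage (inv f)).Full := Functor.Full.of_comp_faithful _ (K.inverseImage f)
  have : (K.inverseImage (inv f)).EssSurj := ⟨fun b => ⟨_, ⟨(K.inverseImage f ⋙ K.inverseImage (inv f)).objObjPreimageIso b⟩⟩⟩
  have : (K.inverseImage (inv f)).IsEquivalence := { }
  exact Functor.isEquivalence_of_comp_right (K.inverseImage f) (K.inverseImage (inv f))

end Groth.Agent.FibClv19
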