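import Groth.Agent.FibClv19.Yoneda
import Groth.Prelude.Def_AlgSt
import Mathlib.CategoryTheory.EssentiallySmall
import Mathlib.CategoryTheory.Bicategory.Grothendieck
import Mathlib.CategoryTheory.Bicategory.Functor.LocallyDiscrete
import Mathlib.CategoryTheory.Functor.ReflectsIso.Basic

/-! Every fibred category is equivalent to a strict one. -/

set_option autoImplicit false
set_option backward.isDefEq.respectTransparency false
set_option backward.isDefEq.respectTransparency.types false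

universe v u

open CategoryTheory CategoryTheory.Functor FibCat Groth.Agent.Desc19 Groth.Agent.Stk19 Opposite

namespace Groth.Agent.FibClv19

variable {C : Type u} [Category.{v} C] (𝒳 : BasedCategory.{v, max u v} C) [hX : 𝒳.p.IsFibered]

abbrev cartP (U : C) : ObjectProperty (overCat U ⥤ᵇ 𝒳) :=
  PreservesStronglyCartesian (𝒳 := overCat U) (𝒴 := 𝒳)

abbrev D (U : C) := (cartP 𝒳 U).FullSubcategory

instance (U : C) : ((cartP 𝒳 U).ι ⋙ evalAtId 𝒳 U).IsEquivalence := evalAtId_cart_isEquivalence U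

instance (U : C) : LocallySmall.{v} (D 𝒳 U) := locallySmall_of_faithful.{v} ((cartP 𝒳 U).ι ⋙ evalAtId 𝒳 U)

/-- The slice functor of an arrow. -/
def overB {U V : C} (f : V ⟶ U) : overCat V ⥤ᵇ overCat U where
  toFunctor := Over.map f
  w := rfl

theorem overB_id (U : C) : overB (𝟙 U) = BasedFunctor.id (overCat U) := based_ext (Over.mapId_eq U)

theorem overB_comp {U V W : C} (f : V ⟶ U) (g : W ⟶ V) :
    overB (g ≫ f) = BasedFunctor.comp (overB g) (overB f) := based_ext (Over.mapComp_eq g f)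

theorem preserves_comp {U V : C} (b : overCat V ⥤ᵇ overCat U) {G : overCat U ⥤ᵇ 𝒳}
    (h : PreservesStronglyCartesian G) : PreservesStronglyCartesian (BasedFunctor.comp b G) :=
  preserves_of_sc fun φ => sc_of_preserves h (b.map φ)

/-- Restriction along a functor of slices. -/
def R {U V : C} (b : overCat V ⥤ᵇ overCat U) : D 𝒳 U ⥤ D 𝒳 V :=
  (cartP 𝒳 V).lift ((cartP 𝒳 U).ι ⋙ Stk.restr b 𝒳) fun t => preserves_comp 𝒳 b t.property

theorem R_id (U : C) : R 𝒳 (BasedFunctor.id (overCat U)) = 𝟭 _ := rfl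

theorem R_comp {U V W : C} (b : overCat V ⥤ᵇ overCat U) (c : overCat W ⥤ᵇ overCat V) :
    R 𝒳 (BasedFunctor.comp c b) = R 𝒳 b ⋙ R 𝒳 c := rfl

abbrev SD (U : C) := ShrinkHoms.{max u v} (D 𝒳 U)

/-- Restriction on the small models. -/
noncomputable def Φ {U V : C} (b : overCat V ⥤ᵇ overCat U) : SD 𝒳 U ⥤ SD 𝒳 V :=
  ShrinkHoms.inverse _ ⋙ R 𝒳 b ⋙ ShrinkHoms.functor _

theorem functor_inverse (U : C) : ShrinkHoms.functor (D 𝒳 U) ⋙ ShrinkHoms.inverse (D 𝒳 U) = 𝟭 _ :=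
  CategoryTheory.Functor.ext (fun _ => rfl) (fun X Y f => by
    simp only [eqToHom_refl, Category.id_comp, Category.comp_id, Functor.comp_map, Functor.id_map]
    exact Equiv.symm_apply_apply _ f)

theorem inverse_functor (U : C) : ShrinkHoms.inverse (D 𝒳 U) ⋙ ShrinkHoms.functor (D 𝒳 U) = 𝟭 _ :=
  CategoryTheory.Functor.ext (fun _ => rfl) (fun X Y f => by
    simp only [eqToHom_refl, Category.id_comp, Category.comp_id, Functor.comp_map, Functor.id_map]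
    exact Equiv.apply_symm_apply _ f)

theorem Φ_id (U : C) : Φ 𝒳 (BasedFunctor.id (overCat U)) = 𝟭 _ := by
  show ShrinkHoms.inverse _ ⋙ 𝟭 _ ⋙ ShrinkHoms.functor _ = _
  exact inverse_functor 𝒳 U

theorem Φ_comp {U V W : C} (b : overCat V ⥤ᵇ overCat U) (c : overCat W ⥤ᵇ overCat V) :
    Φ 𝒳 (BasedFunctor.comp c b) = Φ 𝒳 b ⋙ Φ 𝒳 c := by
  show _ = ShrinkHoms.inverse _ ⋙ R 𝒳 b ⋙ (ShrinkHoms.functor _ ⋙ ShrinkHoms.inverse _) ⋙ R 𝒳 c ⋙ ShrinkHoms.functor _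
  rw [functor_inverse]
  rfl

/-- The strict functor of cartesian sections. -/
noncomputable def F : Cᵒᵖ ⥤ Cat.{v, max u v} where
  obj U := Cat.of (SD 𝒳 U.unop)
  map g := (Φ 𝒳 (overB g.unop)).toCatHom
  map_id U := Cat.Hom.ext (by
    show Φ 𝒳 (overB (𝟙 U.unop)) = _
    rw [overB_id, Φ_id]
    rfl)
  map_comp {U V W} g h := Cat.Hom.ext (by
    show Φ 𝒳 (overB (h.unop ≫ g.unop)) = _
    rw [overB_comp, Φ_comp]
    rfl)

/-- Evaluation at the identity. -/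
noncomputable def E (U : C) : SD 𝒳 U ⥤ 𝒳.p.Fiber U :=
  ShrinkHoms.inverse _ ⋙ (cartP 𝒳 U).ι ⋙ evalAtId 𝒳 U

noncomputable def ev (U : C) : SD 𝒳 U ⥤ 𝒳.obj := E 𝒳 U ⋙ Fiber.fiberInclusion

instance (U : C) : (E 𝒳 U).IsEquivalence :=
  inferInstanceAs (ShrinkHoms.inverse _ ⋙ ((cartP 𝒳 U).ι ⋙ evalAtId 𝒳 U)).IsEquivalence

theorem ev_w (U : C) (t : SD 𝒳 U) : 𝒳.p.obj ((ev 𝒳 U).obj t) = U := ((E 𝒳 U).obj t).2

def θ {U V : C} (f : V ⟶ U) : (Over.map f).obj (Over.mk (𝟙 V)) ⟶ Over.mk (𝟙 U) :=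
  Over.homMk f (by simp)

/-- The cartesian arrow between the evaluations. -/
noncomputable def τ {U V : C} (f : V ⟶ U) : Φ 𝒳 (overB f) ⋙ ev 𝒳 V ⟶ ev 𝒳 U where
  app t := (ShrinkHoms.fromShrinkHoms t).obj.map (θ f)
  naturality t t' m := by
    show ((ShrinkHoms.inverse _).map ((ShrinkHoms.functor _).map ((R 𝒳 (overB f)).map ((ShrinkHoms.inverse _).map m)))).hom.toNatTrans.app _ ≫ _ = _
    rw [show (ShrinkHoms.inverse _).map ((ShrinkHoms.functor _).map ((R 𝒳 (overB f)).map ((ShrinkHoms.inverse _).map m))) =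
      (R 𝒳 (overB f)).map ((ShrinkHoms.inverse _).map m) from Equiv.symm_apply_apply _ _]
    exact (((ShrinkHoms.inverse _).map m).hom.toNatTrans.naturality (θ f)).symm

theorem τ_sc {U V : C} (f : V ⟶ U) (t : SD 𝒳 U) : 𝒳.p.IsStronglyCartesian (𝒳.p.map ((τ 𝒳 f).app t)) ((τ 𝒳 f).app t) :=
  sc_of_preserves (ShrinkHoms.fromShrinkHoms t).property (θ f)

theorem τ_map {U V : C} (f : V ⟶ U) (t : SD 𝒳 U) :
    𝒳.p.map ((τ 𝒳 f).app t) = eqToHom (ev_w 𝒳 V ((Φ 𝒳 (overB f)).obj t)) ≫ f ≫ eqToHom (ev_w 𝒳 U t).symm :=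
  based_map (ShrinkHoms.fromShrinkHoms t).obj (θ f)

theorem ev_map {U : C} {s t : SD 𝒳 U} (m : s ⟶ t) :
    𝒳.p.map ((ev 𝒳 U).map m) = eqToHom ((ev_w 𝒳 U s).trans (ev_w 𝒳 U t).symm) :=
  have : 𝒳.p.IsHomLift (𝟙 U) ((ev 𝒳 U).map m) := ((E 𝒳 U).map m).2
  map_eq_of_vert 𝒳.p (R := U) _

theorem τ_id (U : C) (t : SD 𝒳 U) (h : t = (Φ 𝒳 (overB (𝟙 U))).obj t) :
    (ev 𝒳 U).map (eqToHom h) ≫ (τ 𝒳 (𝟙 U)).app t = 𝟙 _ := by
  rw [eqToHom_map]
  have e : (Over.mk (𝟙 U) : Over U) = (Over.map (𝟙 U)).obj (Over.mk (𝟙 U)) := by simp [Over.map, Comma.mapRight, Over.mk, CostructuredArrow.mk]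
  show eqToHom _ ≫ (ShrinkHoms.fromShrinkHoms t).obj.map (θ (𝟙 U)) = 𝟙 ((ShrinkHoms.fromShrinkHoms t).obj.obj _)
  rw [show θ (𝟙 U) = eqToHom e.symm from Over.OverMorphism.ext (by simp [θ, Over.eqToHom_left]), eqToHom_map, eqToHom_trans, eqToHom_refl]

theorem τ_comp {U V W : C} (f : V ⟶ U) (g : W ⟶ V) (t : SD 𝒳 U)
    (h : (Φ 𝒳 (overB g)).obj ((Φ 𝒳 (overB f)).obj t) = (Φ 𝒳 (overB (g ≫ f))).obj t) :
    (ev 𝒳 W).map (eqToHom h) ≫ (τ 𝒳 (g ≫ f)).app t = (τ 𝒳 g).app ((Φ 𝒳 (overB f)).obj t) ≫ (τ 𝒳 f).app t := by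
  rw [eqToHom_map]
  show eqToHom _ ≫ (ShrinkHoms.fromShrinkHoms t).obj.map (θ (g ≫ f)) =
    (ShrinkHoms.fromShrinkHoms t).obj.map ((Over.map f).map (θ g)) ≫ (ShrinkHoms.fromShrinkHoms t).obj.map (θ f)
  have e : (Over.map f).obj ((Over.map g).obj (Over.mk (𝟙 W))) = (Over.map (g ≫ f)).obj (Over.mk (𝟙 W)) := by
    simp [Over.map, Comma.mapRight, Over.mk, CostructuredArrow.mk]
  rw [← (ShrinkHoms.fromShrinkHoms t).obj.map_comp,
    show (Over.map f).map (θ g) ≫ θ f = eqToHom e ≫ θ (g ≫ f) from Over.OverMorphism.ext (by simp [θ, Over.eqToHom_left]),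
    Functor.map_comp, eqToHom_map]

theorem map_fac' {U V : C} (f : V ⟶ U) {s : SD 𝒳 V} {t : SD 𝒳 U} (m : s ⟶ (Φ 𝒳 (overB f)).obj t) :
    𝒳.p.map ((ev 𝒳 V).map m ≫ (τ 𝒳 f).app t) = eqToHom (ev_w 𝒳 V s) ≫ f ≫ eqToHom (ev_w 𝒳 U t).symm := by
  erw [𝒳.p.map_comp, ev_map 𝒳 m, τ_map 𝒳 f t]
  simp

/-- The strict fibred category. -/
noncomputable abbrev G : BasedCategory.{v, max u v} C :=
  BasedCategory.ofFunctor (Pseudofunctor.CoGrothendieck.forget (F 𝒳).toPseudofunctor')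

/-- Evaluation, as a functor over the base. -/
noncomputable def Ψ : G 𝒳 ⥤ᵇ 𝒳 where
  toFunctor :=
    { obj := fun X => (ev 𝒳 X.base).obj X.fiber
      map := fun {X Y} a => (ev 𝒳 X.base).map a.fiber ≫ (τ 𝒳 a.base).app Y.fiber
      map_id := fun X => by
        rw [Pseudofunctor.CoGrothendieck.categoryStruct_id_fiber]
        simp only [Functor.toPseudofunctor'_mapId, eqToIso.inv, Cat.Hom₂.eqToHom_toNatTrans, eqToHom_app]
        exact τ_id 𝒳 X.base X.fiber _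
      map_comp := fun {X Y Z} a b => by
        rw [Pseudofunctor.CoGrothendieck.categoryStruct_comp_fiber]
        simp only [Functor.toPseudofunctor'_mapComp, eqToIso.inv, Cat.Hom₂.eqToHom_toNatTrans, eqToHom_app,
          Functor.map_comp, Category.assoc]
        rw [← reassoc_of% ((τ 𝒳 a.base).naturality b.fiber)]
        refine congrArg (_ ≫ ·) (congrArg (_ ≫ ·) ?_)
        exact τ_comp 𝒳 b.base a.base Z.fiber _ }
  w := CategoryTheory.Functor.ext (fun X => ev_w 𝒳 X.base X.fiber) fun X Y a => by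
    exact map_fac' 𝒳 (V := X.base) (U := Y.base) a.base (s := X.fiber) (t := Y.fiber) a.fiber

theorem isEquivOver_Ψ : IsEquivOver (Ψ 𝒳) := by
  refine EqvData.isEquivOver ⟨⟨fun {X Y} a => ?_⟩, ⟨fun {X Y} a b h => ?_⟩, fun x => ?_⟩
  · let g : X.base ⟶ Y.base := eqToHom (ev_w 𝒳 _ X.fiber).symm ≫ 𝒳.p.map a ≫ eqToHom (ev_w 𝒳 _ Y.fiber)
    have := τ_sc 𝒳 g Y.fiber
    obtain ⟨χ, ⟨hχ, hχ'⟩, -⟩ := sc_spec 𝒳.p ((τ 𝒳 g).app Y.fiber) a
      (eqToHom ((ev_w 𝒳 _ X.fiber).trans (ev_w 𝒳 X.base ((Φ 𝒳 (overB g)).obj Y.fiber)).symm)) (by rw [τ_map]; simp [g])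
    let m : (E 𝒳 X.base).obj X.fiber ⟶ (E 𝒳 X.base).obj ((Φ 𝒳 (overB g)).obj Y.fiber) :=
      ⟨χ, (vert_iff _ _).2 ⟨ev_w 𝒳 _ X.fiber, _, hχ⟩⟩
    refine ⟨⟨g, (E 𝒳 X.base).preimage m⟩, ?_⟩
    show (ev 𝒳 X.base).map ((E 𝒳 X.base).preimage m) ≫ _ = a
    rw [show (ev 𝒳 X.base).map ((E 𝒳 X.base).preimage m) = χ from congrArg Subtype.val ((E 𝒳 X.base).map_preimage m)]
    exact hχ'
  · have key : ∀ c : X ⟶ Y, c.base = eqToHom (ev_w 𝒳 _ X.fiber).symm ≫ 𝒳.p.map ((Ψ 𝒳).map c) ≫ eqToHom (ev_w 𝒳 _ Y.fiber) :=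
      fun c => by rw [based_map (Ψ 𝒳)]; simp; rfl
    obtain ⟨g, s⟩ := a
    obtain ⟨g', s'⟩ := b
    have eg : g = g' := (key ⟨g, s⟩).trans ((by rw [h] : _ = _).trans (key ⟨g', s'⟩).symm)
    subst eg
    have := τ_sc 𝒳 g Y.fiber
    have h' : (ev 𝒳 X.base).map s = (ev 𝒳 X.base).map s' :=
      sc_ext 𝒳.p ((τ 𝒳 g).app Y.fiber) ((ev_map 𝒳 s).trans (ev_map 𝒳 s').symm) h
    rw [show s = s' from (E 𝒳 X.base).map_injective (Fiber.hom_ext h')]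
  · let Xf : 𝒳.p.Fiber (𝒳.p.obj x) := ⟨x, rfl⟩
    exact ⟨⟨𝒳.p.obj x, (E 𝒳 _).objPreimage Xf⟩, Fiber.fiberInclusion.mapIso ((E 𝒳 _).objObjPreimageIso Xf),
      ((E 𝒳 _).objObjPreimageIso Xf).hom.2⟩

theorem exists_strict :
    ∃ (E' : 𝒳 ⥤ᵇ G 𝒳), IsEquivOver E' := by
  obtain ⟨E', hE', -, -⟩ := exists_inverse (isEquivOver_Ψ 𝒳)
  exact ⟨E', hE'⟩

theorem isGroupoid_F (h : IsFibGrpd 𝒳.p) (U : Cᵒᵖ) : IsGroupoid ((F 𝒳).obj U) := by
  have := (fibGrpd_iff.1 h).2 U.unop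
  refine ⟨fun {s t} m => ?_⟩
  change SD 𝒳 U.unop at s t
  have : IsIso ((E 𝒳 U.unop).map m) := IsGroupoid.all_isIso _
  exact ⟨(E 𝒳 U.unop).preimage (inv ((E 𝒳 U.unop).map m)), (E 𝒳 U.unop).map_injective (by simp),
    (E 𝒳 U.unop).map_injective (by simp)⟩

end Groth.Agent.FibClv19
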