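import Groth.Agent.Stk19.Yoneda

/-! The 2-Yoneda lemma for fibred categories. -/

set_option autoImplicit false
set_option backward.isDefEq.respectTransparency false
set_option backward.isDefEq.respectTransparency.types false

universe v₂ u₂ v u

open CategoryTheory CategoryTheory.Functor FibCat Groth.Agent.Desc19 Groth.Agent.Stk19

namespace Groth.Agent.FibClv19

variable {C : Type u} [Category.{v} C] {𝒳 : BasedCategory.{v₂, u₂} C} {U : C}

theorem sc_of_map {𝒴 : Type u₂} [Category.{v₂} 𝒴] (p : 𝒴 ⥤ C) {R S : C} {a b : 𝒴} (f : R ⟶ S) (φ : a ⟶ b)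
    (hl : p.IsHomLift f φ) (h : p.IsStronglyCartesian (p.map φ) φ) : p.IsStronglyCartesian f φ := by
  obtain rfl := IsHomLift.domain_eq p f φ
  obtain rfl := IsHomLift.codomain_eq p f φ
  obtain rfl := IsHomLift.eq_of_isHomLift p f φ
  exact h

theorem overCat_sc {R S : C} {a b : (overCat U).obj} (f : R ⟶ S) (φ : a ⟶ b) (h : (overCat U).p.IsHomLift f φ) :
    (overCat U).p.IsStronglyCartesian f φ :=
  sc_of_map _ f φ h ((isFibGrpd_overCat U).isStronglyCartesian φ)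

theorem preserves_of_sc {G : overCat U ⥤ᵇ 𝒳}
    (h : ∀ {a b : (overCat U).obj} (φ : a ⟶ b), 𝒳.p.IsStronglyCartesian (𝒳.p.map (G.map φ)) (G.map φ)) :
    PreservesStronglyCartesian G := fun R S f a b φ hφ => by
  have := hφ.toIsHomLift
  exact sc_of_map _ f _ inferInstance (h φ)

theorem sc_of_preserves {G : overCat U ⥤ᵇ 𝒳} (h : PreservesStronglyCartesian G) {a b : (overCat U).obj} (φ : a ⟶ b) :
    𝒳.p.IsStronglyCartesian (𝒳.p.map (G.map φ)) (G.map φ) :=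
  have := h ((overCat U).p.map φ) φ ((isFibGrpd_overCat U).isStronglyCartesian φ)
  sc_map_of_sc 𝒳.p ((overCat U).p.map φ) _

theorem yoneda_ext {F G : overCat U ⥤ᵇ 𝒳} (hG : PreservesStronglyCartesian G) {α β : F ⟶ G}
    (e : α.toNatTrans.app (Over.mk (𝟙 U)) = β.toNatTrans.app (Over.mk (𝟙 U))) : α = β := by
  apply BasedNatTrans.homCategory.ext
  apply NatTrans.ext
  funext a
  have := sc_of_preserves hG (toId a)
  refine sc_ext 𝒳.p (G.map (toId a)) ((based_app_map α a).trans (based_app_map β a).symm) ?_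
  rw [← α.toNatTrans.naturality (toId a), ← β.toNatTrans.naturality (toId a), e]

theorem yoneda_exists (F : overCat U ⥤ᵇ 𝒳) {G : overCat U ⥤ᵇ 𝒳} (hG : PreservesStronglyCartesian G)
    (t : F.obj (Over.mk (𝟙 U)) ⟶ G.obj (Over.mk (𝟙 U))) (ht : 𝒳.p.IsHomLift (𝟙 U) t) :
    ∃ α : F ⟶ G, α.toNatTrans.app (Over.mk (𝟙 U)) = t := by
  have htm := map_eq_of_vert 𝒳.p (R := U) t
  have key : ∀ a, ∃! c : F.obj a ⟶ G.obj a,
      𝒳.p.map c = eqToHom ((F.w_obj a).trans (G.w_obj a).symm) ∧ c ≫ G.map (toId a) = F.map (toId a) ≫ t :=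
    fun a =>
      have := sc_of_preserves hG (toId a)
      sc_spec 𝒳.p (G.map (toId a)) _ _ (by rw [𝒳.p.map_comp, based_map F, based_map G, htm]; simp)
  choose c hc hu using key
  refine ⟨{ app := c, naturality := fun a b φ => ?_, isHomLift' := fun a => ?_ }, ?_⟩
  · have := sc_of_preserves hG (toId b)
    refine sc_ext 𝒳.p (G.map (toId b)) ?_ ?_
    · rw [𝒳.p.map_comp, 𝒳.p.map_comp, based_map F, based_map G, (hc a).1, (hc b).1]
      simp
    · rw [Category.assoc, (hc b).2, Category.assoc, ← G.toFunctor.map_comp, toId_natural, (hc a).2,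
        ← Category.assoc, ← F.toFunctor.map_comp, toId_natural]
  · exact vert_change 𝒳.p _ (vert_of_map_eq 𝒳.p (hc a).1) (F.w_obj a)
  · have e : toId (Over.mk (𝟙 U)) = 𝟙 _ := Over.OverMorphism.ext rfl
    refine (hu _ t ⟨by rw [htm], ?_⟩).symm
    rw [e, G.toFunctor.map_id, F.toFunctor.map_id]
    simp

theorem yoneda_essSurj [𝒳.p.IsFibered] (x : 𝒳.p.Fiber U) :
    ∃ F : overCat U ⥤ᵇ 𝒳, PreservesStronglyCartesian F ∧ Nonempty ((evalAtId 𝒳 U).obj F ≅ x) := by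
  have hp : ∀ a : (overCat U).obj, ∃ (y : 𝒳.obj) (φ : y ⟶ x.1) (e : 𝒳.p.obj y = a.left),
      𝒳.p.map φ = eqToHom e ≫ a.hom ≫ eqToHom x.2.symm ∧ 𝒳.p.IsStronglyCartesian (𝒳.p.map φ) φ := fun a => by
    obtain ⟨b, φ, h1, h2⟩ := exists_sc_lift 𝒳.p x.1 a.left (a.hom ≫ eqToHom x.2.symm)
    exact ⟨b, φ, IsHomLift.domain_eq 𝒳.p (a.hom ≫ eqToHom x.2.symm) φ, by simpa using IsHomLift.fac' 𝒳.p (a.hom ≫ eqToHom x.2.symm) φ, h2⟩
  choose y φ e hφ hsc using hp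
  have hf : ∀ (p : Σ a b : (overCat U).obj, a ⟶ b), ∃! χ : y p.1 ⟶ y p.2.1,
      𝒳.p.map χ = eqToHom (e p.1) ≫ p.2.2.left ≫ eqToHom (e p.2.1).symm ∧ χ ≫ φ p.2.1 = φ p.1 :=
    fun ⟨a, b, g⟩ =>
      have := hsc b
      sc_spec 𝒳.p (φ b) (φ a) _ (by
        rw [hφ, hφ]
        simp only [Category.assoc, eqToHom_trans_assoc, eqToHom_refl, Category.id_comp]
        rw [← Category.assoc g.left, Over.w g])
  choose m hm hu using hf
  let F : overCat U ⥤ᵇ 𝒳 :=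
    { toFunctor :=
        { obj := y
          map := fun {a b} g => m ⟨a, b, g⟩
          map_id := fun a => (hu ⟨a, a, 𝟙 a⟩ _ ⟨by
            rw [show (𝟙 a : a ⟶ a).left = 𝟙 a.left from rfl]; simp, Category.id_comp _⟩).symm
          map_comp := fun {a b c} g g' => (hu ⟨a, c, g ≫ g'⟩ _
            ⟨by rw [𝒳.p.map_comp, (hm ⟨a, b, g⟩).1, (hm ⟨b, c, g'⟩).1,
              show (g ≫ g').left = g.left ≫ g'.left from rfl]; simp,
             by rw [Category.assoc, (hm ⟨b, c, g'⟩).2, (hm ⟨a, b, g⟩).2]⟩).symm }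
      w := CategoryTheory.Functor.ext e (fun a b g => (hm ⟨a, b, g⟩).1) }
  refine ⟨F, preserves_of_sc fun {a b} g => ?_, ?_⟩
  · have := hsc b
    have h2 := (hm ⟨a, b, g⟩).2
    have : 𝒳.p.IsStronglyCartesian (𝒳.p.map (m ⟨a, b, g⟩) ≫ 𝒳.p.map (φ b)) (m ⟨a, b, g⟩ ≫ φ b) := by
      rw [← 𝒳.p.map_comp, h2]; exact hsc a
    exact IsStronglyCartesian.of_comp 𝒳.p (g := 𝒳.p.map (φ b)) (ψ := φ b)
  · have := hsc (Over.mk (𝟙 U))
    have hlift : 𝒳.p.IsHomLift (𝟙 U) (φ (Over.mk (𝟙 U))) :=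
      (vert_iff _ _).2 ⟨e _, (e _).trans x.2.symm, by rw [hφ]; simp⟩
    have : 𝒳.p.IsStronglyCartesian (𝟙 U) (φ (Over.mk (𝟙 U))) := sc_of_map _ _ _ hlift inferInstance
    have := IsStronglyCartesian.isIso_of_base_isIso 𝒳.p (𝟙 U) (φ (Over.mk (𝟙 U)))
    let t : (evalAtId 𝒳 U).obj F ⟶ x := ⟨φ (Over.mk (𝟙 U)), hlift⟩
    have : IsIso t := ⟨⟨inv (φ (Over.mk (𝟙 U))), inferInstance⟩,
      Fiber.hom_ext (IsIso.hom_inv_id _), Fiber.hom_ext (IsIso.inv_hom_id _)⟩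
    exact ⟨asIso t⟩

theorem evalAtId_cart_isEquivalence [𝒳.p.IsFibered] (U : C) :
    (ObjectProperty.ι (PreservesStronglyCartesian (𝒳 := overCat U) (𝒴 := 𝒳)) ⋙ evalAtId 𝒳 U).IsEquivalence :=
  { full := ⟨fun {F G} t => by
      obtain ⟨α, hα⟩ := yoneda_exists F.obj G.property t.1 t.2
      exact ⟨⟨α⟩, Subtype.ext hα⟩⟩
    faithful := ⟨fun {F G α β} hab => ObjectProperty.hom_ext _ (yoneda_ext G.property (congrArg Subtype.val hab))⟩
    essSurj := ⟨fun x => (yoneda_essSurj x).elim fun F ⟨hF, hi⟩ => ⟨⟨F, hF⟩, hi⟩⟩ }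

end Groth.Agent.FibClv19
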